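import Mathlib

/-!
# Comparison theorem: complexes of projectives map to resolutions
-/

set_option autoImplicit false
universe v u

open CategoryTheory

namespace GrothLib.FreeLift

variable {C : Type u} [Category.{v} C] [Abelian C] {M N : C} {Nc : ChainComplex C ℕ}
  (εN : Nc ⟶ (ChainComplex.single₀ C).obj N)

theorem d_comp_aug : Nc.d 1 0 ≫ εN.f 0 = 0 := by
  rw [← εN.comm 1 0, HomologicalComplex.single_obj_d, Limits.comp_zero]

set_option backward.isDefEq.respectTransparency.types false in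
set_option backward.defeqAttrib.useBackward true in
/-- the augmentation of a resolution is the cokernel of the first differential -/
noncomputable def isColimitAug [QuasiIso εN] :
    Limits.IsColimit (Limits.CokernelCofork.ofπ (εN.f 0) (d_comp_aug εN)) := by
  refine Limits.IsColimit.ofIsoColimit (Nc.opcyclesIsCokernel 1 0 (by simp)) ?_
  refine Limits.Cofork.ext (Nc.isoHomologyι₀.symm ≪≫ isoOfQuasiIsoAt εN 0 ≪≫
    HomologicalComplex.singleObjHomologySelfIso _ _ _) ?_
  rw [← cancel_mono (HomologicalComplex.singleObjHomologySelfIso (ComplexShape.down ℕ) 0 _).inv,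
    ← cancel_mono (ChainComplex.isoHomologyι₀ _).hom]
  dsimp
  simp only [ChainComplex.isoHomologyι₀_inv_naturality_assoc, HomologicalComplex.p_opcyclesMap_assoc,
    ChainComplex.single₀_obj_zero, Category.assoc, Iso.hom_inv_id, Category.comp_id,
    HomologicalComplex.isoHomologyι_inv_hom_id, HomologicalComplex.singleObjHomologySelfIso_inv_homologyι,
    HomologicalComplex.singleObjOpcyclesSelfIso_hom, ChainComplex.single₀ObjXSelf, Iso.refl_inv, Category.id_comp]

theorem exists_lift_and_homotopy [QuasiIso εN] (g : M ⟶ N) (F : ChainComplex C ℕ) [∀ i, Projective (F.X i)]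
    (εF : F ⟶ (ChainComplex.single₀ C).obj M) :
    (∃ φ : F ⟶ Nc, φ ≫ εN = εF ≫ (ChainComplex.single₀ C).map g) ∧ ∀ α β : F ⟶ Nc,
      α ≫ εN = εF ≫ (ChainComplex.single₀ C).map g → β ≫ εN = εF ≫ (ChainComplex.single₀ C).map g →
        Nonempty (Homotopy α β) := by
  have hd0 := d_comp_aug εN
  have hcok := isColimitAug εN
  have hex0 : (ShortComplex.mk _ _ hd0).Exact := ShortComplex.exact_of_g_is_cokernel _ hcok
  have hexs : ∀ n : ℕ, (ShortComplex.mk _ _ (Nc.d_comp_d (n + 2) (n + 1) n)).Exact := fun n =>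
    ((HomologicalComplex.exactAt_iff' _ (n + 2) (n + 1) n) (by simp only [ChainComplex.prev]; rfl) (by simp)).1
      (by
        rw [← quasiIsoAt_iff_exactAt' εN (n + 1) (ChainComplex.exactAt_succ_single_obj _ _)]
        infer_instance)
  haveI : Epi (εN.f 0) := Limits.epi_of_isColimit_cofork hcok
  haveI : @Epi C _ (Nc.X 0) N (εN.f 0) := this
  have hcomm : ∀ (φ : F ⟶ Nc), φ.f 0 ≫ εN.f 0 = εF.f 0 ≫ g →
      φ ≫ εN = εF ≫ (ChainComplex.single₀ C).map g := fun φ h => by
    apply HomologicalComplex.to_single_hom_ext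
    simpa using h
  refine ⟨?_, fun α β hα hβ => ?_⟩
  · let f0 : F.X 0 ⟶ Nc.X 0 := Projective.factorThru (εF.f 0 ≫ g) (εN.f 0)
    have e1 : f0 ≫ εN.f 0 = εF.f 0 ≫ g := Projective.factorThru_comp _ _
    have eF : F.d 1 0 ≫ εF.f 0 = 0 := by
      rw [← εF.comm 1 0, HomologicalComplex.single_obj_d, Limits.comp_zero]
    let f1 : F.X 1 ⟶ Nc.X 1 := hex0.liftFromProjective (F.d 1 0 ≫ f0) (by
      show (F.d 1 0 ≫ f0) ≫ εN.f 0 = 0
      rw [Category.assoc]
      erw [e1]
      exact ((Category.assoc _ _ _).symm.trans (congrArg (fun t => t ≫ g) eF)).trans Limits.zero_comp)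
    let φ : F ⟶ Nc := ChainComplex.mkHom _ _ f0 f1 (hex0.liftFromProjective_comp _ _) fun n ⟨a, a', w⟩ =>
      ⟨(hexs n).liftFromProjective (F.d (n + 2) (n + 1) ≫ a') (by simp [w]),
        (hexs n).liftFromProjective_comp _ _⟩
    exact ⟨φ, hcomm φ e1⟩
  · refine ⟨Homotopy.equivSubZero.invFun ?_⟩
    have h0 : (α - β).f 0 ≫ εN.f 0 = 0 := by
      have ha := HomologicalComplex.congr_hom hα 0
      have hb := HomologicalComplex.congr_hom hβ 0
      rw [HomologicalComplex.comp_f] at ha hb
      rw [HomologicalComplex.sub_f_apply, Preadditive.sub_comp, ha, hb, sub_self]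
    generalize α - β = d at h0 ⊢
    let s0 : F.X 0 ⟶ Nc.X 1 := hex0.liftFromProjective (d.f 0) h0
    have hs0 : s0 ≫ Nc.d 1 0 = d.f 0 := hex0.liftFromProjective_comp _ _
    let s1 : F.X 1 ⟶ Nc.X 2 := (hexs 0).liftFromProjective (d.f 1 - F.d 1 0 ≫ s0)
      (by rw [Preadditive.sub_comp, Category.assoc, HomologicalComplex.Hom.comm, hs0, sub_self])
    have hs1 : s1 ≫ Nc.d 2 1 = d.f 1 - F.d 1 0 ≫ s0 := (hexs 0).liftFromProjective_comp _ _
    exact Homotopy.mkInductive _ s0 (by simp [hs0]) s1 (by simp [hs1]) fun n ⟨a, a', w⟩ =>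
      ⟨(hexs (n + 1)).liftFromProjective (d.f (n + 2) - F.d _ _ ≫ a') (by simp [w]),
        by
          have := (hexs (n + 1)).liftFromProjective_comp (d.f (n + 2) - F.d _ _ ≫ a') (by simp [w])
          simp [this]⟩

end GrothLib.FreeLift
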